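import Groth.Agent.Weighting.SplitAlg
import Groth.Agent.FEtRank.Count
import Groth.Agent.FpqcDescent.Immersion
import Groth.Prelude.Def_BigSite
import Mathlib

/-!
Condition (A) for separated locally quasi-finite morphisms.
-/

set_option autoImplicit false
set_option backward.isDefEq.respectTransparency false
set_option linter.style.haveILetI false

universe u

open CategoryTheory CategoryTheory.Limits AlgebraicGeometry TensorProduct

namespace Groth.Agent.PropALib

/-- finite étale morphism with a point of degree one: a clopen of the target carrying a section -/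
theorem exists_section_of_finrank_eq_one {B P : Scheme.{u}} (π : B ⟶ P) [IsFinite π] [Etale π] (p : P)
    (hp : π.finrank p = 1) :
    ∃ (L : P.Opens) (_ : IsClosed (L : Set P)) (s : (L : Scheme.{u}) ⟶ B),
      s ≫ π = L.ι ∧ p ∈ L ∧ ∀ b : B, π b ∈ L → b ∈ Set.range s.base := by
  have hlc := π.isLocallyConstant_finrank
  let L : P.Opens := ⟨π.finrank ⁻¹' {1}, (hlc.isClopen_fiber 1).2⟩
  haveI : IsFinite (π ∣_ L) := MorphismProperty.of_isPullback (isPullback_morphismRestrict π L).flip ‹_›
  haveI : Etale (π ∣_ L) := MorphismProperty.of_isPullback (isPullback_morphismRestrict π L).flip ‹_›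
  haveI : IsIso (π ∣_ L) := (Scheme.Hom.isIso_iff_finrank_eq (π ∣_ L)).mpr (funext fun y => by
    rw [Scheme.Hom.finrank_of_isPullback _ _ π L.ι (isPullback_morphismRestrict π L).flip y]
    exact y.2)
  refine ⟨L, (hlc.isClopen_fiber 1).1, inv (π ∣_ L) ≫ (π ⁻¹ᵁ L).ι, ?_, hp, fun b hb => ?_⟩
  · rw [Category.assoc, ← morphismRestrict_ι, IsIso.inv_hom_id_assoc]
  · refine ⟨(π ∣_ L) ⟨b, hb⟩, ?_⟩
    rw [← Scheme.Hom.comp_apply, IsIso.hom_inv_id_assoc]
    rfl

theorem propA_of_locallyQuasiFinite {X Y : Scheme.{u}} (f : X ⟶ Y) [IsSeparated f] [LocallyQuasiFinite f]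
    [LocallyOfFiniteType f] : BigSite.PropA f := by
  intro U g _ u
  obtain ⟨Y₀, hY₀, hy, -⟩ := exists_isAffineOpen_mem_and_subset (X := Y) (x := (g ≫ f) u) (U := ⊤) trivial
  obtain ⟨U₀, hU₀, hu, hle⟩ := exists_isAffineOpen_mem_and_subset (X := U) (x := u) (U := (g ≫ f) ⁻¹ᵁ Y₀) hy
  have hle' : U₀ ≤ (g ≫ f) ⁻¹ᵁ Y₀ := hle
  haveI := Groth.Agent.FpqcDescent.locallyQuasiFinite_of_etale g
  let R := Γ(Y, Y₀)
  let T := Γ(U, U₀)
  let φ : R ⟶ T := (g ≫ f).appLE Y₀ U₀ hle'
  letI : Algebra R T := φ.hom.toAlgebra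
  haveI : Algebra.FiniteType R T :=
    RingHom.finiteType_algebraMap.mp ((g ≫ f).finiteType_appLE hY₀ hU₀ hle')
  haveI : Algebra.QuasiFinite R T :=
    RingHom.quasiFinite_algebraMap.mp
      (HasRingHomProperty.appLE @LocallyQuasiFinite (g ≫ f) inferInstance ⟨Y₀, hY₀⟩ ⟨U₀, hU₀⟩ hle')
  obtain ⟨Ω, _, _, ξ, hξ⟩ := FEtRank.exists_geomPt (X := Spec T) (hU₀.primeIdealOf ⟨u, hu⟩)
  let ξT : T ⟶ CommRingCat.of Ω := Spec.preimage ξ
  letI : Algebra R Ω := (φ ≫ ξT).hom.toAlgebra
  let ξ' : T →ₐ[R] Ω := { toRingHom := ξT.hom, commutes' := fun r => rfl }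
  obtain ⟨R', _, _, _, v, e, he, hfin, hne, huniq⟩ := Groth.Agent.Weighting.exists_etale_split Ω ξ'
  -- schemes
  let aR : R ⟶ CommRingCat.of R' := CommRingCat.ofHom (algebraMap R R')
  haveI : Etale (Spec.map aR) := by
    rw [HasRingHomProperty.Spec_iff (P := @Etale)]
    exact RingHom.etale_algebraMap.mpr inferInstance
  let vY : Spec (CommRingCat.of R') ⟶ Y := Spec.map aR ≫ hY₀.fromSpec
  haveI : Etale vY := inferInstance
  let inL : CommRingCat.of R' ⟶ CommRingCat.of (R' ⊗[R] T) :=
    CommRingCat.ofHom (Algebra.TensorProduct.includeLeftRingHom : R' →+* R' ⊗[R] T)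
  let inR : T ⟶ CommRingCat.of (R' ⊗[R] T) :=
    CommRingCat.ofHom ((Algebra.TensorProduct.includeRight : T →ₐ[R] R' ⊗[R] T).toRingHom)
  let loc : CommRingCat.of (R' ⊗[R] T) ⟶ CommRingCat.of (Localization.Away e) :=
    CommRingCat.ofHom (algebraMap _ _)
  haveI : IsOpenImmersion (Spec.map loc) :=
    IsOpenImmersion.of_isLocalization (S := Localization.Away e) e
  have hφ : Spec.map φ ≫ hY₀.fromSpec = hU₀.fromSpec ≫ g ≫ f :=
    IsAffineOpen.SpecMap_appLE_fromSpec (g ≫ f) hY₀ hU₀ hle'
  have hsq : aR ≫ inL = φ ≫ inR := CommRingCat.hom_ext (RingHom.ext fun r =>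
    ((Algebra.TensorProduct.includeLeft : R' →ₐ[R] R' ⊗[R] T).commutes r).trans
      ((Algebra.TensorProduct.includeRight : T →ₐ[R] R' ⊗[R] T).commutes r).symm)
  have hw : (Spec.map inR ≫ hU₀.fromSpec ≫ g) ≫ f = Spec.map inL ≫ vY := by
    rw [show Spec.map inL ≫ vY = Spec.map (aR ≫ inL) ≫ hY₀.fromSpec by rw [Spec.map_comp, Category.assoc],
      hsq, Spec.map_comp]
    simp only [Category.assoc, hφ]
  let π₀ : Spec (CommRingCat.of (R' ⊗[R] T)) ⟶ pullback f vY :=
    pullback.lift (Spec.map inR ≫ hU₀.fromSpec ≫ g) (Spec.map inL) hw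
  let π : Spec (CommRingCat.of (Localization.Away e)) ⟶ pullback f vY := Spec.map loc ≫ π₀
  haveI : IsFinite (π ≫ pullback.snd f vY) := by
    simp only [π, π₀, Category.assoc, pullback.lift_snd, ← Spec.map_comp, IsFinite.SpecMap_iff]
    exact RingHom.finite_algebraMap.mpr hfin
  haveI : IsFinite π := IsFinite.of_comp π (pullback.snd f vY)
  haveI : Etale (Spec.map inR) := by
    rw [HasRingHomProperty.Spec_iff (P := @Etale)]
    letI : Algebra T (R' ⊗[R] T) := Algebra.TensorProduct.rightAlgebra
    show RingHom.Etale (algebraMap T (R' ⊗[R] T))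
    exact RingHom.Etale.isStableUnderBaseChange R R' T _ (RingHom.etale_algebraMap.mpr inferInstance)
  haveI : Etale π := by
    haveI h1 : Etale (π ≫ pullback.fst f vY) := by
      simp only [π, π₀, Category.assoc, pullback.lift_fst]
      infer_instance
    exact MorphismProperty.of_postcomp (W := @Etale) (W' := @Etale) π (pullback.fst f vY) inferInstance h1
  -- the geometric point
  let ψ : R' ⊗[R] T →ₐ[R] Ω := Algebra.TensorProduct.lift v ξ' (fun _ _ => .all _ _)
  have hψ : IsUnit (ψ.toRingHom e) := isUnit_iff_ne_zero.mpr hne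
  let ψe : CommRingCat.of (Localization.Away e) ⟶ CommRingCat.of Ω :=
    CommRingCat.ofHom (IsLocalization.Away.lift e (g := ψ.toRingHom) hψ)
  have hψR : inR ≫ loc ≫ ψe = ξT := CommRingCat.hom_ext (RingHom.ext fun t =>
    (IsLocalization.Away.lift_eq e hψ _).trans
      ((Algebra.TensorProduct.lift_tmul v ξ' _ 1 t).trans (by rw [map_one, one_mul]; rfl)))
  have hψL : inL ≫ loc ≫ ψe = CommRingCat.ofHom v.toRingHom := CommRingCat.hom_ext (RingHom.ext fun t =>
    (IsLocalization.Away.lift_eq e hψ _).trans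
      ((Algebra.TensorProduct.lift_tmul v ξ' _ t 1).trans (by rw [map_one, mul_one]; rfl)))
  let b : Spec (CommRingCat.of Ω) ⟶ Spec (CommRingCat.of (Localization.Away e)) := Spec.map ψe
  let Bc : FEt.Cat (pullback f vY) := MorphismProperty.Over.mk ⊤ π ⟨inferInstance, inferInstance⟩
  have hcard : Nat.card (FEt.fiberObj (b ≫ π) Bc) = 1 := by
    haveI : Unique (FEt.fiberObj (b ≫ π) Bc) :=
      { default := ⟨b, rfl⟩
        uniq := fun ⟨b', hb'⟩ => Subtype.ext (by
          let c : CommRingCat.of (Localization.Away e) ⟶ CommRingCat.of Ω := Spec.preimage b'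
          have hc : Spec.map c = b' := Spec.map_preimage _
          have hs := congrArg (· ≫ pullback.snd f vY) hb'
          change (b' ≫ π) ≫ pullback.snd f vY = (b ≫ π) ≫ pullback.snd f vY at hs
          simp only [π, π₀, b, ← hc, Category.assoc, pullback.lift_snd, ← Spec.map_comp] at hs
          have hL : inL ≫ loc ≫ c = CommRingCat.ofHom v.toRingHom :=
            (Spec.map_injective (by simpa only [Category.assoc] using hs)).trans hψL
          show b' = b
          rw [← hc]
          refine congrArg Spec.map (CommRingCat.hom_ext (IsLocalization.ringHom_ext (Submonoid.powers e) ?_))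
          let χ : T →ₐ[R] Ω :=
            { toRingHom := (inR ≫ loc ≫ c).hom
              commutes' := fun r => by
                have h1 := ConcreteCategory.congr_hom hsq r
                have h2 := ConcreteCategory.congr_hom hL (algebraMap R R' r)
                refine Eq.trans ?_ (v.commutes r)
                refine Eq.trans ?_ h2
                exact congrArg (fun z => c (loc z)) h1.symm }
          have key : ∀ z, Algebra.TensorProduct.lift v χ (fun _ _ => .all _ _) z = c.hom (loc.hom z) := fun z => by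
            induction z using TensorProduct.induction_on with
            | zero => simp
            | tmul x y =>
              rw [Algebra.TensorProduct.lift_tmul, ← mul_one x, ← one_mul y, ← Algebra.TensorProduct.tmul_mul_tmul,
                mul_one, one_mul, map_mul, map_mul]
              exact congrArg (· * _) (ConcreteCategory.congr_hom hL x).symm
            | add x y hx hy => simp only [map_add, hx, hy]
          have hχξ : χ = ξ' := huniq χ (by
            rw [key]
            exact ((IsLocalization.Away.algebraMap_isUnit e).map c.hom).ne_zero)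
          refine RingHom.ext fun z => ?_
          show c.hom (loc.hom z) = ψe.hom (loc.hom z)
          rw [← key z, hχξ]
          exact (IsLocalization.Away.lift_eq e hψ z).symm) }
    exact Nat.card_unique
  let p₀ := Groth.Agent.FEtGal.pt₀ Ω
  have hp : π.finrank (π (b p₀)) = 1 := by
    rw [← Scheme.Hom.comp_apply]
    exact (FEtRank.natCard_fiber (b ≫ π) Bc).symm.trans hcard
  obtain ⟨L, hL, s, hs, hmem, hrange⟩ := exists_section_of_finrank_eq_one π (π (b p₀)) hp
  refine ⟨_, vY, inferInstance, L, hL, s ≫ Spec.map loc ≫ Spec.map inR ≫ hU₀.fromSpec, ?_, ?_⟩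
  · rw [← hs]
    simp [π, π₀]
  · obtain ⟨l, hl⟩ := hrange (b p₀) hmem
    refine ⟨l, ?_⟩
    rw [Scheme.Hom.comp_apply, hl, ← Scheme.Hom.comp_apply]
    have : b ≫ Spec.map loc ≫ Spec.map inR ≫ hU₀.fromSpec = ξ ≫ hU₀.fromSpec := by
      rw [← Spec.map_comp_assoc, ← Spec.map_comp_assoc, hψR, Spec.map_preimage]
    rw [this, Scheme.Hom.comp_apply, hξ, hU₀.fromSpec_primeIdealOf]

end Groth.Agent.PropALib
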